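import Cfsg.Agent.H854.Ore.J4
import Cfsg.Agent.H450.S8.Core
import Cfsg.Agent.H664.Eight.Base

/-!
# S4908, `J₄`: the numerical facts on the degrees (helper935)

A degree of `J₄` divides `|J₄|` and is `0`, `1`, `14`, `29`, `42` modulo `43`.
-/

set_option autoImplicit false

open Cfsg Subgroup

namespace Cfsg.Agent.H935.S8.JFour

open Cfsg.Agent.H651.Two Cfsg.Agent.H854.JM

/-- the degrees of `Spor.J4` -/
theorem deg {d : ℕ} (hd : d ∈ charDegrees Spor.J4) :
    d ∣ 86775571046077562880 ∧ (d % 43 = 0 ∨ d % 43 = 1 ∨ d % 43 = 14 ∨ d % 43 = 29 ∨ d % 43 = 42) := by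
  have hfin : Finite Spor.J4 := H858.FixJ4.facts.1
  have hsim := simple_J
  obtain ⟨χ, rfl⟩ := hd
  refine ⟨H854.Ore.card'' ▸ H511.Ore.charDegree_dvd χ, ?_⟩
  have hm : (⟨43, 1, 14, 3, [(0, 0), (1, 3), (14, -1), (29, 1), (42, -3)], 3, true⟩ : CD) ∈ H854.Ore.cdJ := by
    simp [H854.Ore.cdJ]
  have h := H511.Ore.res_of_has noncomm_J H854.Ore.card'' (H854.Ore.hasJ _ hm)
    (List.all_eq_true.1 H854.Ore.hcd _ hm) χ
  simpa [or_assoc] using h

theorem degX {X : Type*} [Group X] (hX : Spor.IsoJ4 X) {d : ℕ} (hd : d ∈ charDegrees X) :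
    d ∣ 86775571046077562880 ∧ (d % 43 = 0 ∨ d % 43 = 1 ∨ d % 43 = 14 ∨ d % 43 = 29 ∨ d % 43 = 42) := by
  obtain ⟨e⟩ := hX
  exact deg (H664.Eight.charDegrees_subset e.symm hd)

theorem num {X : Type*} [Group X] (hX : Spor.IsoJ4 X) :
    H450.S8.Num (charDegrees X) 86775571046077562880 (H450.S8.okDeg 1 [(43, 14)]) where
  pos := by norm_num
  dvd hd := (degX hX hd).1
  ok {d} hd := by
    obtain ⟨h1, h2⟩ := degX hX hd
    rw [H450.S8.okDeg, Bool.and_eq_true]
    refine ⟨?_, ?_⟩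
    · rw [Bool.or_eq_true, beq_iff_eq, decide_eq_true_eq]
      exact Or.inr (Nat.pos_of_dvd_of_pos h1 (by norm_num))
    · rw [List.all_eq_true]
      intro x hx
      rw [List.mem_singleton] at hx
      subst hx
      rcases h2 with h | h | h | h | h <;> rw [h] <;> decide

end Cfsg.Agent.H935.S8.JFour
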