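import Cfsg.Agent.H450.S8.Soc2
import Cfsg.Agent.H935.S8.JNum

/-!
# SOC2 of S4908 for `J₄` (helper935)
-/

set_option autoImplicit false

namespace Cfsg.Agent.H935.S8.JFour

open Cfsg Cfsg.Agent.H450.S8

universe u v

theorem test : soc2Test 86775571046077562880 (P1 86775571046077562880 (okDeg 1 [(43, 14)]))
    [(2, 21), (3, 3), (5, 1), (7, 1), (11, 3), (23, 1), (29, 1), (31, 1), (37, 1), (43, 1)] = true := by
  decide +kernel

theorem soc2 {X : Type v} [Group X] (hX : Spor.IsoJ4 X) {D : Set ℕ} (hD : H704.S8.Deg 1 X D) :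
    H704.S8.Soc2.{u} D :=
  soc2_one (num hX) (by simp; norm_num) test hD

end Cfsg.Agent.H935.S8.JFour
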